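import Mathlib.RingTheory.Ideal.Cotangent
import Mathlib.RingTheory.Flat.Basic
import Mathlib.RingTheory.IsTensorProduct
import Mathlib.RingTheory.TensorProduct.IsBaseChangeRightExact
import Mathlib.RingTheory.Flat.FaithfullyFlat.Basic

/-! The conormal module commutes with flat base change. -/

set_option autoImplicit false
universe u v

namespace K653.CotBC

open TensorProduct

variable (A : Type u) (B : Type v) [CommRing A] [CommRing B] [Algebra A B]

/-- The map `I → IB`. -/
noncomputable def idealMap (I : Ideal A) : I →ₗ[A] I.map (algebraMap A B) where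
  toFun x := ⟨algebraMap A B x, Ideal.mem_map_of_mem _ x.2⟩
  map_add' x y := by ext; simp
  map_smul' r x := by ext; simp [Algebra.smul_def]

/-- For `A → B` flat, `IB` is the base change of `I`. -/
theorem isBaseChange_idealMap [Module.Flat A B] (I : Ideal A) :
    IsBaseChange B (idealMap A B I) := by
  let κ : B ⊗[A] I →ₗ[B] I.map (algebraMap A B) := (idealMap A B I).liftBaseChange B
  have hinj : Function.Injective κ := by
    have h1 : Function.Injective ((I.subtype).lTensor B) :=
      Module.Flat.lTensor_preserves_injective_linearMap I.subtype Subtype.val_injective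
    have h2 : ∀ z : B ⊗[A] I, ((κ z : I.map (algebraMap A B)) : B) =
        TensorProduct.rid A B ((I.subtype).lTensor B z) := by
      intro z
      induction z with
      | zero => simp
      | add x y hx hy => rw [map_add, map_add, map_add, Submodule.coe_add, hx, hy]
      | tmul b x =>
        simp only [κ, LinearMap.liftBaseChange_tmul, LinearMap.lTensor_tmul, TensorProduct.rid_tmul]
        change b * algebraMap A B x = (x : A) • b
        rw [Algebra.smul_def, mul_comm]
    intro x y hxy
    apply h1
    apply (TensorProduct.rid A B).injective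
    rw [← h2, ← h2, hxy]
  have hsurj : Function.Surjective κ := by
    rintro ⟨y, hy⟩
    induction hy using Submodule.span_induction with
    | mem x hx =>
      obtain ⟨a, ha, rfl⟩ := hx
      refine ⟨1 ⊗ₜ ⟨a, ha⟩, ?_⟩
      simp only [κ, LinearMap.liftBaseChange_tmul, one_smul]
      rfl
    | zero => exact ⟨0, map_zero _⟩
    | add x y hx hy h1 h2 =>
      obtain ⟨a, ha⟩ := h1
      obtain ⟨b, hb⟩ := h2
      exact ⟨a + b, by rw [map_add, ha, hb]; rfl⟩
    | smul c x hx h1 =>
      obtain ⟨a, ha⟩ := h1
      exact ⟨c • a, by rw [map_smul, ha]; rfl⟩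
  refine IsBaseChange.of_equiv (LinearEquiv.ofBijective κ ⟨hinj, hsurj⟩) (fun x => ?_)
  simp [κ]

/-- The map of conormal modules `I/I² → IB/(IB)²`. -/
noncomputable def cotMap (I : Ideal A) : I.Cotangent →ₗ[A] (I.map (algebraMap A B)).Cotangent :=
  Ideal.mapCotangent I (I.map (algebraMap A B)) (Algebra.ofId A B) Ideal.le_comap_map

theorem cotMap_toCotangent (I : Ideal A) (x : I) :
    cotMap A B I (I.toCotangent x) = (I.map (algebraMap A B)).toCotangent (idealMap A B I x) := rfl

/-- The conormal module commutes with flat base change. -/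
theorem isBaseChange_cotMap [Module.Flat A B] (I : Ideal A) :
    IsBaseChange B (cotMap A B I) := by
  have hle : I ^ 2 ≤ I := Ideal.pow_le_self two_ne_zero
  let f : ↥(I ^ 2) →ₗ[A] ↥I := Submodule.inclusion hle
  let f' : ↥((I ^ 2).map (algebraMap A B)) →ₗ[B] ↥(I.map (algebraMap A B)) :=
    Submodule.inclusion (Ideal.map_mono hle)
  refine IsBaseChange.of_right_exact B (idealMap A B (I ^ 2)) (idealMap A B I) (cotMap A B I)
    (f := f) (g := I.toCotangent) (f' := f') (g' := (I.map (algebraMap A B)).toCotangent)
    ?_ ?_ (isBaseChange_idealMap A B _) (isBaseChange_idealMap A B _) ?_ I.toCotangent_surjective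
    ?_ (I.map (algebraMap A B)).toCotangent_surjective
  · ext x; rfl
  · ext x; rfl
  · intro x
    rw [Ideal.toCotangent_eq_zero]
    exact ⟨fun h => ⟨⟨x, h⟩, rfl⟩, fun ⟨y, hy⟩ => hy ▸ y.2⟩
  · intro x
    rw [Ideal.toCotangent_eq_zero, ← Ideal.map_pow]
    exact ⟨fun h => ⟨⟨x, h⟩, rfl⟩, fun ⟨y, hy⟩ => hy ▸ y.2⟩

end K653.CotBC
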