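import Groth.Prelude.Def_PP16
import Mathlib.RingTheory.Localization.FractionRing
import Mathlib.RingTheory.Nilpotent.Basic

/-! Principal parts of a purely transcendental extension `k(T_1, …, T_r)` of a field. -/

set_option autoImplicit false
set_option linter.unusedSectionVars false
universe u

open scoped TensorProduct
open PP16

namespace K653.PurelyTrans

variable (k : Type u) [Field k] (r n : ℕ) (K : Type u) [Field K] [Algebra k K]
  [Algebra (MvPolynomial (Fin r) k) K] [IsScalarTower k (MvPolynomial (Fin r) k) K]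
  [IsFractionRing (MvPolynomial (Fin r) k) K]

local notation "A" => MvPolynomial (Fin r) k
local notation "R" => MvPolynomial (Fin r) K

/-- The ideal of the origin. -/
noncomputable abbrev m : Ideal R := Ideal.span (Set.range (MvPolynomial.X : Fin r → MvPolynomial (Fin r) K))

local notation "Q" => MvPolynomial (Fin r) K ⧸ (m r K) ^ (n + 1)

/-- The translated substitution `T_i ↦ T_i + U_i`. -/
noncomputable def τ0 : A →ₐ[k] Q :=
  MvPolynomial.aeval fun i => algebraMap K Q (algebraMap A K (MvPolynomial.X i)) +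
    Ideal.Quotient.mk _ (MvPolynomial.X i)

/-- The image of the ideal of the origin. -/
noncomputable abbrev mQ : Ideal Q := (m r K).map (Ideal.Quotient.mk ((m r K) ^ (n + 1)))

theorem mQ_pow : (mQ r n K) ^ (n + 1) = ⊥ := by
  rw [mQ, ← Ideal.map_pow]
  exact Ideal.map_quotient_self _

theorem τ0_sub (f : A) :
    τ0 k r n K f - algebraMap K Q (algebraMap A K f) ∈ mQ r n K := by
  rw [← Ideal.Quotient.mk_eq_mk_iff_sub_mem]
  have : (Ideal.Quotient.mkₐ k (mQ r n K)).comp (τ0 k r n K) =
      (Ideal.Quotient.mkₐ k (mQ r n K)).comp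
        ((IsScalarTower.toAlgHom k K Q).comp (IsScalarTower.toAlgHom k A K)) := by
    ext i
    simp only [AlgHom.comp_apply, Ideal.Quotient.mkₐ_eq_mk]
    rw [Ideal.Quotient.mk_eq_mk_iff_sub_mem, τ0, MvPolynomial.aeval_X]
    simp only [IsScalarTower.coe_toAlgHom', add_sub_cancel_left]
    exact Ideal.mem_map_of_mem _ (Ideal.subset_span ⟨i, rfl⟩)
  exact DFunLike.congr_fun this f

theorem isUnit_τ0 (f : nonZeroDivisors A) : IsUnit (τ0 k r n K f) := by
  have h1 := τ0_sub k r n K f
  have h2 : IsNilpotent (τ0 k r n K f - algebraMap K Q (algebraMap A K f)) := by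
    refine ⟨n + 1, ?_⟩
    have := Ideal.pow_mem_pow h1 (n + 1)
    rw [mQ_pow] at this
    exact this
  have h3 : IsUnit (algebraMap K Q (algebraMap A K f)) :=
    (IsLocalization.map_units K f).map _
  have := h2.isUnit_add_left_of_commute h3 (mul_comm _ _)
  rwa [add_sub_cancel] at this

/-- The extension of `τ0` to the rational function field. -/
noncomputable def τ : K →ₐ[k] Q :=
  IsLocalization.liftAlgHom (M := nonZeroDivisors A) (f := τ0 k r n K) (isUnit_τ0 k r n K)

theorem τ_algebraMap (f : A) : τ k r n K (algebraMap A K f) = τ0 k r n K f :=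
  IsLocalization.lift_eq (isUnit_τ0 k r n K) f

theorem τ_sub (b : K) : τ k r n K b - algebraMap K Q b ∈ mQ r n K := by
  rw [← Ideal.Quotient.mk_eq_mk_iff_sub_mem]
  have : (Ideal.Quotient.mk (mQ r n K)).comp (τ k r n K).toRingHom =
      (Ideal.Quotient.mk (mQ r n K)).comp (algebraMap K Q) := by
    refine IsLocalization.ringHom_ext (nonZeroDivisors A) ?_
    refine RingHom.ext fun f => ?_
    have h := τ0_sub k r n K f
    rw [← Ideal.Quotient.mk_eq_mk_iff_sub_mem] at h
    refine Eq.trans ?_ h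
    exact congrArg _ (τ_algebraMap k r n K f)
  exact DFunLike.congr_fun this b

/-- The map `K ⊗ K → Q`. -/
noncomputable def Φ0 : K ⊗[k] K →ₐ[K] Q :=
  Algebra.TensorProduct.lift (Algebra.ofId K Q) (τ k r n K) fun _ _ => mul_comm _ _

theorem Φ0_tmul (a b : K) : Φ0 k r n K (a ⊗ₜ b) = algebraMap _ _ a * τ k r n K b := by
  rw [Φ0, Algebra.TensorProduct.lift_tmul]; rfl

theorem Φ0_ideal_le : (KaehlerDifferential.ideal k K).map (Φ0 k r n K) ≤ mQ r n K := by
  rw [← KaehlerDifferential.span_range_eq_ideal, Ideal.map_span, Ideal.span_le]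
  rintro _ ⟨_, ⟨s, rfl⟩, rfl⟩
  rw [map_sub, Φ0_tmul, Φ0_tmul, map_one, map_one, one_mul, mul_one]
  exact τ_sub k r n K s

/-- The map `P^n → Q`. -/
noncomputable def Φ : PP16.P n k K →ₐ[K] Q :=
  Ideal.Quotient.liftₐ _ (Φ0 k r n K) (by
    intro x hx
    have h := Ideal.pow_right_mono (Φ0_ideal_le k r n K) (n + 1)
    rw [← Ideal.map_pow, mQ_pow] at h
    exact h (Ideal.mem_map_of_mem _ hx))

theorem Φ_dn (b : K) : Φ k r n K (dn n k K b) = τ k r n K b := by
  change Φ0 k r n K (1 ⊗ₜ b) = _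
  rw [Φ0_tmul, map_one, one_mul]

/-- The map `R → P^n`. -/
noncomputable def ψ : R →ₐ[K] PP16.P n k K :=
  MvPolynomial.aeval fun i => dn n k K (algebraMap A K (MvPolynomial.X i)) -
    algebraMap K (PP16.P n k K) (algebraMap A K (MvPolynomial.X i))

theorem Φ_ψ : (Φ k r n K).comp (ψ k r n K) = Ideal.Quotient.mkₐ K _ := by
  ext i
  rw [AlgHom.comp_apply, ψ, MvPolynomial.aeval_X, map_sub, Φ_dn, τ_algebraMap, τ0,
    MvPolynomial.aeval_X, AlgHom.commutes, add_sub_cancel_left]
  rfl

theorem m_pow_le : (m r K) ^ (n + 1) ≤ RingHom.ker (ψ k r n K) := by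
  have h1 : (m r K).map (ψ k r n K) ≤ (KaehlerDifferential.ideal k K).map
      (Ideal.Quotient.mk ((KaehlerDifferential.ideal k K) ^ (n + 1))) := by
    rw [Ideal.map_span, Ideal.span_le]
    rintro _ ⟨_, ⟨i, rfl⟩, rfl⟩
    rw [ψ, MvPolynomial.aeval_X]
    exact Ideal.mem_map_of_mem _ (KaehlerDifferential.one_smul_sub_smul_one_mem_ideal k _)
  have h2 := Ideal.pow_right_mono h1 (n + 1)
  rw [← Ideal.map_pow, ← Ideal.map_pow, Ideal.map_quotient_self, le_bot_iff] at h2
  intro x hx
  have := Ideal.mem_map_of_mem (ψ k r n K) hx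
  rw [h2] at this
  exact this

theorem ker_ψ : RingHom.ker (ψ k r n K) = (m r K) ^ (n + 1) := by
  refine le_antisymm (fun x hx => ?_) (m_pow_le k r n K)
  rw [← Ideal.Quotient.eq_zero_iff_mem]
  have := DFunLike.congr_fun (Φ_ψ k r n K) x
  rw [AlgHom.comp_apply, (hx : ψ k r n K x = 0), map_zero] at this
  exact this.symm

/-- The map `Q → P^n`. -/
noncomputable def ψbar : Q →ₐ[K] PP16.P n k K :=
  Ideal.Quotient.liftₐ _ (ψ k r n K) fun _ hx => m_pow_le k r n K hx

theorem ψbar_mk (x : R) : ψbar k r n K (Ideal.Quotient.mk _ x) = ψ k r n K x := rfl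

theorem ψbar_τ0 (f : A) : ψbar k r n K (τ0 k r n K f) = dn n k K (algebraMap _ _ f) := by
  have : ((ψbar k r n K).restrictScalars k).comp (τ0 k r n K) =
      (dn n k K).comp (IsScalarTower.toAlgHom k A K) := by
    ext i
    rw [AlgHom.comp_apply, AlgHom.comp_apply, τ0, MvPolynomial.aeval_X]
    change ψbar k r n K _ = _
    rw [map_add, AlgHom.commutes, ψbar_mk, ψ, MvPolynomial.aeval_X]
    simp
  exact DFunLike.congr_fun this f

theorem ψbar_τ (b : K) : ψbar k r n K (τ k r n K b) = dn n k K b := by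
  have : (ψbar k r n K).toRingHom.comp (τ k r n K).toRingHom = (dn n k K).toRingHom := by
    refine IsLocalization.ringHom_ext (nonZeroDivisors A) ?_
    refine RingHom.ext fun f => ?_
    refine Eq.trans ?_ (ψbar_τ0 k r n K f)
    exact congrArg _ (τ_algebraMap k r n K f)
  exact DFunLike.congr_fun this b

theorem ψbar_Φ (x : PP16.P n k K) : ψbar k r n K (Φ k r n K x) = x := by
  obtain ⟨t, rfl⟩ := Ideal.Quotient.mk_surjective x
  have : (ψbar k r n K).comp (Φ0 k r n K) =
      Ideal.Quotient.mkₐ K ((KaehlerDifferential.ideal k K) ^ (n + 1)) := by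
    refine Algebra.TensorProduct.ext (by ext) ?_
    refine AlgHom.ext fun b => ?_
    change ψbar k r n K (Φ0 k r n K (1 ⊗ₜ b)) = _
    rw [Φ0_tmul, map_one, one_mul, ψbar_τ]
    rfl
  exact DFunLike.congr_fun this t

theorem ψ_surjective : Function.Surjective (ψ k r n K) := by
  intro x
  obtain ⟨y, hy⟩ := Ideal.Quotient.mk_surjective (Φ k r n K x)
  exact ⟨y, by rw [← ψbar_mk, hy, ψbar_Φ]⟩

end K653.PurelyTrans
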