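import Mathlib.RingTheory.Ideal.Cotangent
import Mathlib.RingTheory.Flat.Basic
import Mathlib.RingTheory.IsTensorProduct
import Mathlib.RingTheory.TensorProduct.Quotient
import Mathlib.RingTheory.Flat.FaithfullyFlat.Basic
import Mathlib.RingTheory.Finiteness.Descent
import Groth.Agent.S3822

/-! Descent of projectivity of modules over a quotient along a faithfully flat ring map. -/

set_option autoImplicit false
universe u

namespace K653.QuotDesc

open TensorProduct

theorem isBaseChange_id {R S M : Type*} [CommRing R] [CommRing S] [Algebra R S]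
    (hs : Function.Surjective (algebraMap R S)) [AddCommGroup M] [Module R M] [Module S M]
    [IsScalarTower R S M] : IsBaseChange S (LinearMap.id : M →ₗ[R] M) := by
  apply IsBaseChange.of_lift_unique
  intro Q _ _ _ _ g
  refine ⟨{ toFun := g, map_add' := g.map_add, map_smul' := ?_ }, ?_, ?_⟩
  · intro s m
    obtain ⟨r, rfl⟩ := hs s
    rw [RingHom.id_apply, algebraMap_smul, algebraMap_smul, map_smul]
  · ext; rfl
  · intro g' hg'
    ext m
    exact LinearMap.congr_fun hg' m

theorem descend {A B M N : Type u} [CommRing A] [CommRing B] [Algebra A B]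
    [Module.FaithfullyFlat A B] [AddCommGroup M] [Module A M] [AddCommGroup N] [Module B N]
    [Module A N] [IsScalarTower A B N] (I : Ideal A) [Module (A ⧸ I) M] [IsScalarTower A (A ⧸ I) M]
    [Module (B ⧸ I.map (algebraMap A B)) N] [IsScalarTower B (B ⧸ I.map (algebraMap A B)) N]
    (f : M →ₗ[A] N) (hf : IsBaseChange B f)
    [Module.Finite (B ⧸ I.map (algebraMap A B)) N]
    [Module.Projective (B ⧸ I.map (algebraMap A B)) N] :
    Module.Projective (A ⧸ I) M := by
  let T := B ⧸ I.map (algebraMap A B)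
  have hmk : ∀ a : A, algebraMap (A ⧸ I) T (Ideal.Quotient.mk I a) =
      Ideal.Quotient.mk (I.map (algebraMap A B)) (algebraMap A B a) := fun a => rfl
  let m1 : Module (A ⧸ I) N := Module.compHom N (algebraMap (A ⧸ I) T)
  have t1 : IsScalarTower (A ⧸ I) T N := ⟨fun x y n => by
    rw [Algebra.smul_def, mul_smul]; rfl⟩
  have t0 : ∀ (b : B) (n : N), (Ideal.Quotient.mk (I.map (algebraMap A B)) b : T) • n = b • n := by
    intro b n
    have := algebraMap_smul T b n
    exact this
  have t2 : IsScalarTower A (A ⧸ I) N := ⟨fun a x n => by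
    obtain ⟨x, rfl⟩ := Ideal.Quotient.mk_surjective x
    change algebraMap (A ⧸ I) T (a • Ideal.Quotient.mk I x) • n =
      a • (algebraMap (A ⧸ I) T (Ideal.Quotient.mk I x) • n)
    have e : a • Ideal.Quotient.mk I x = Ideal.Quotient.mk I (a * x) := rfl
    rw [e, hmk, hmk, t0, t0, map_mul, mul_smul, algebraMap_smul]⟩
  have t3 : IsScalarTower A T N := ⟨fun a x n => by
    obtain ⟨x, rfl⟩ := Ideal.Quotient.mk_surjective x
    have e : a • (Ideal.Quotient.mk (I.map (algebraMap A B)) x : T) =
      Ideal.Quotient.mk (I.map (algebraMap A B)) (algebraMap A B a * x) := by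
        rw [← smul_eq_mul, algebraMap_smul]; rfl
    rw [e, t0, t0, mul_smul, algebraMap_smul]⟩
  have t4 : IsScalarTower A (A ⧸ I) T := ⟨fun a x y => by
    obtain ⟨x, rfl⟩ := Ideal.Quotient.mk_surjective x
    have e : a • Ideal.Quotient.mk I x = Ideal.Quotient.mk I (a * x) := rfl
    rw [e, Algebra.smul_def, Algebra.smul_def (R := A ⧸ I) (A := T), hmk, hmk, map_mul, map_mul,
      mul_assoc, Algebra.smul_def]
    rfl⟩
  let f' : M →ₗ[A ⧸ I] N :=
    { toFun := f, map_add' := f.map_add, map_smul' := fun s m => by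
        obtain ⟨r, rfl⟩ := Ideal.Quotient.mk_surjective s
        have e1 : (Ideal.Quotient.mk I r) • m = r • m := algebraMap_smul (A ⧸ I) r m
        have e2 : (Ideal.Quotient.mk I r) • f m = r • f m := algebraMap_smul (A ⧸ I) r (f m)
        rw [RingHom.id_apply, e1, e2, map_smul] }
  have h0 : IsBaseChange (A ⧸ I) (LinearMap.id : M →ₗ[A] M) :=
    isBaseChange_id Ideal.Quotient.mk_surjective
  have h2 : IsBaseChange T (LinearMap.id : N →ₗ[B] N) :=
    isBaseChange_id Ideal.Quotient.mk_surjective
  have h3 := hf.comp h2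
  have h4 : IsBaseChange T ((f' : M →ₗ[A] N) ∘ₗ (LinearMap.id : M →ₗ[A] M)) := h3
  have h5 : IsBaseChange T f' := IsBaseChange.of_comp h0 h4
  have hff : Module.FaithfullyFlat (A ⧸ I) T :=
    Module.FaithfullyFlat.of_linearEquiv (A ⧸ I) ((A ⧸ I) ⊗[A] B)
      (Algebra.TensorProduct.quotIdealMapEquivQuotTensor B I).toLinearEquiv
  have h6 : Module.Finite T (T ⊗[A ⧸ I] M) := Module.Finite.equiv h5.equiv.symm
  have h7 : Module.Projective T (T ⊗[A ⧸ I] M) := Module.Projective.of_equiv h5.equiv.symm
  exact (Groth.Agent.S3822.finite_projective_descends (A ⧸ I) T M).1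

end K653.QuotDesc
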